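import Cfsg.Agent.Lib.Dickson.Parity
import Cfsg.Agent.Lib.Dickson.StdQuad
import Cfsg.Agent.Lib.Forms.Witt

/-!
Maximal totally singular subspaces of the hyperbolic quadric over a submaximal one.
-/

set_option autoImplicit false
set_option linter.unusedSectionVars false

namespace Cfsg.Agent.Lib.MaxSingular

open Cfsg.Agent.Lib.Parity Cfsg.Agent.Lib.StdForms

variable {F : Type*} [Field F] {m : ℕ}

/-- The common zeros of the coordinates in the range of `σ`. -/
noncomputable def coordKer (F : Type*) [Field F] {m : ℕ} {κ : Type} (σ : κ → Fin m ⊕ Fin m) :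
    Submodule F (Fin m ⊕ Fin m → F) :=
  LinearMap.ker (LinearMap.funLeft F F σ)

theorem mem_coordKer {κ : Type} {σ : κ → Fin m ⊕ Fin m} {v : Fin m ⊕ Fin m → F} :
    v ∈ coordKer F σ ↔ ∀ i, v (σ i) = 0 := by
  simp only [coordKer, LinearMap.mem_ker, funext_iff, LinearMap.funLeft_apply, Pi.zero_apply]

theorem finrank_coordKer {κ : Type} [Fintype κ] {σ : κ → Fin m ⊕ Fin m} (hσ : Function.Injective σ) :
    Module.finrank F (coordKer F σ) + Fintype.card κ = m + m := by
  have h := (LinearMap.funLeft F F σ).finrank_range_add_finrank_ker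
  rw [LinearMap.range_eq_top.2 (LinearMap.funLeft_surjective_of_injective F F _ hσ), finrank_top] at h
  rw [Module.finrank_fintype_fun_eq_card F, Module.finrank_fintype_fun_eq_card F, Fintype.card_sum,
    Fintype.card_fin] at h
  rw [add_comm] at h
  exact h

/-- The coordinates vanishing on the second of the two subspaces through the submaximal one. -/
def swapIdx (i₀ : Fin m) (i : Fin m) : Fin m ⊕ Fin m := if i = i₀ then .inl i₀ else .inr i

/-- The coordinates vanishing on the submaximal subspace. -/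
def midIdx (i₀ : Fin m) : Fin m ⊕ Unit → Fin m ⊕ Fin m := Sum.elim .inr fun _ => .inl i₀

theorem swapIdx_injective (i₀ : Fin m) : Function.Injective (swapIdx i₀) := by
  intro a b h
  by_cases ha : a = i₀ <;> by_cases hb : b = i₀ <;> simp [swapIdx, ha, hb] at h ⊢ <;> tauto

theorem midIdx_injective (i₀ : Fin m) : Function.Injective (midIdx i₀) := by
  rintro (a | a) (b | b) h <;> simp [midIdx] at h ⊢ <;> exact h

theorem coordKer_inr_inf_swap (i₀ : Fin m) :
    coordKer F (Sum.inr : Fin m → Fin m ⊕ Fin m) ⊓ coordKer F (swapIdx i₀) = coordKer F (midIdx i₀) := by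
  ext v
  simp only [Submodule.mem_inf, mem_coordKer, Sum.forall, midIdx, Sum.elim_inl, Sum.elim_inr]
  constructor
  · rintro ⟨h1, h2⟩
    refine ⟨h1, fun _ => ?_⟩
    simpa [swapIdx] using h2 i₀
  · rintro ⟨h1, h2⟩
    refine ⟨h1, fun i => ?_⟩
    by_cases hi : i = i₀
    · simpa [swapIdx, hi] using h2 ()
    · simpa [swapIdx, hi] using h1 i

theorem singular_inr {v : Fin m ⊕ Fin m → F} (hv : v ∈ coordKer F (Sum.inr : Fin m → Fin m ⊕ Fin m)) :
    Cfsg.quadFormPlus m F v = 0 :=
  Finset.sum_eq_zero fun i _ => by rw [mem_coordKer.1 hv i, mul_zero]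

theorem singular_swap (i₀ : Fin m) {v : Fin m ⊕ Fin m → F} (hv : v ∈ coordKer F (swapIdx i₀)) :
    Cfsg.quadFormPlus m F v = 0 :=
  Finset.sum_eq_zero fun i _ => by
    have := mem_coordKer.1 hv i
    by_cases hi : i = i₀
    · subst hi; simp [swapIdx] at this; rw [this, zero_mul]
    · simp [swapIdx, hi] at this; rw [this, mul_zero]

/-- Two maximal singular subspaces meeting in codimension one. -/
theorem exists_adjacent (hm : 1 ≤ m) :
    ∃ U W : Submodule F (Fin m ⊕ Fin m → F),
      (Module.finrank F U = m ∧ ∀ w ∈ U, Cfsg.quadFormPlus m F w = 0) ∧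
      (Module.finrank F W = m ∧ ∀ w ∈ W, Cfsg.quadFormPlus m F w = 0) ∧
      Module.finrank F ↥(U ⊓ W) + 1 = m := by
  let i₀ : Fin m := ⟨0, hm⟩
  have h1 := finrank_coordKer (F := F) (σ := (Sum.inr : Fin m → Fin m ⊕ Fin m)) Sum.inr_injective
  have h3 := finrank_coordKer (F := F) (swapIdx_injective i₀)
  have h4 := finrank_coordKer (F := F) (midIdx_injective i₀)
  simp only [Fintype.card_fin, Fintype.card_sum, Fintype.card_unit] at h1 h3 h4
  refine ⟨coordKer F (Sum.inr : Fin m → Fin m ⊕ Fin m), coordKer F (swapIdx i₀),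
    ⟨by omega, fun w hw => singular_inr hw⟩, ⟨by omega, fun w hw => singular_swap i₀ hw⟩, ?_⟩
  rw [coordKer_inr_inf_swap]
  omega

theorem isLagr_of {U : Submodule F (Fin m ⊕ Fin m → F)}
    (h : Module.finrank F U = m ∧ ∀ w ∈ U, Cfsg.quadFormPlus m F w = 0) : IsLagr (plusQ F m) U :=
  ⟨fun u hu => by rw [coe_plusQ]; exact h.2 u hu, by simp [h.1, two_mul]⟩

theorem even_codim {U W X : Submodule F (Fin m ⊕ Fin m → F)}
    (hU : Module.finrank F U = m ∧ ∀ w ∈ U, Cfsg.quadFormPlus m F w = 0)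
    (hW : Module.finrank F W = m ∧ ∀ w ∈ W, Cfsg.quadFormPlus m F w = 0)
    (hX : Module.finrank F X = m ∧ ∀ w ∈ X, Cfsg.quadFormPlus m F w = 0) :
    Even ((m - Module.finrank F ↥(U ⊓ W)) + (m - Module.finrank F ↥(W ⊓ X)) +
      (m - Module.finrank F ↥(U ⊓ X))) := by
  obtain ⟨t, ht⟩ := even_parity (plusQ_nondegenerate m) (isLagr_of hU) (isLagr_of hW) (isLagr_of hX)
  have h1 : Module.finrank F ↥(U ⊓ W) ≤ m := (Submodule.finrank_mono inf_le_left).trans hU.1.le
  have h2 : Module.finrank F ↥(W ⊓ X) ≤ m := (Submodule.finrank_mono inf_le_left).trans hW.1.le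
  have h3 : Module.finrank F ↥(U ⊓ X) ≤ m := (Submodule.finrank_mono inf_le_left).trans hU.1.le
  rw [hU.1] at ht
  refine ⟨(m - Module.finrank F ↥(U ⊓ W)) + (m - Module.finrank F ↥(W ⊓ X)) +
    (m - Module.finrank F ↥(U ⊓ X)) - (2 * m - t), by omega⟩

theorem natCard_over_submax (hm : 1 ≤ m) (U : Submodule F (Fin m ⊕ Fin m → F))
    (hU : Module.finrank F U + 1 = m ∧ ∀ u ∈ U, Cfsg.quadFormPlus m F u = 0) :
    Nat.card {W : Submodule F (Fin m ⊕ Fin m → F) //
      Module.finrank F W = m ∧ (∀ w ∈ W, Cfsg.quadFormPlus m F w = 0) ∧ U ≤ W} = 2 := by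
  classical
  let i₀ : Fin m := ⟨0, hm⟩
  have hA := finrank_coordKer (F := F) (σ := (Sum.inr : Fin m → Fin m ⊕ Fin m)) Sum.inr_injective
  have hB := finrank_coordKer (F := F) (swapIdx_injective i₀)
  have hU0 := finrank_coordKer (F := F) (midIdx_injective i₀)
  simp only [Fintype.card_fin, Fintype.card_sum, Fintype.card_unit] at hA hB hU0
  set A := coordKer F (Sum.inr : Fin m → Fin m ⊕ Fin m)
  set B := coordKer F (swapIdx i₀)
  set U₀ := coordKer F (midIdx i₀)
  have hUA : U₀ ≤ A := (coordKer_inr_inf_swap i₀).symm.le.trans inf_le_left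
  have hUB : U₀ ≤ B := (coordKer_inr_inf_swap i₀).symm.le.trans inf_le_right
  -- reduce to the standard submaximal subspace
  obtain ⟨φ⟩ : Nonempty (U₀ ≃ₗ[F] U) := FiniteDimensional.nonempty_linearEquiv_of_finrank_eq (by omega)
  obtain ⟨g, hg, hgφ⟩ := Cfsg.Agent.Lib.Forms.witt_quad (plusQ_nondegenerate (F := F) m)
    (U.subtype.comp φ.toLinearMap) (U.injective_subtype.comp φ.injective) (fun a => by
      rw [coe_plusQ]
      show Cfsg.quadFormPlus m F (φ a : Fin m ⊕ Fin m → F) = _
      rw [hU.2 _ (φ a).2, singular_inr (hUA a.2)])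
  have hgQ : ∀ v, Cfsg.quadFormPlus m F (g v) = Cfsg.quadFormPlus m F v := by
    intro v; rw [← coe_plusQ]; exact hg v
  have hgU : U₀.map g.toLinearMap = U := by
    refine le_antisymm ?_ fun u hu => ?_
    · rintro _ ⟨a, ha, rfl⟩
      rw [LinearEquiv.coe_coe, hgφ ⟨a, ha⟩]
      exact (φ ⟨a, ha⟩).2
    · refine ⟨(φ.symm ⟨u, hu⟩ : Fin m ⊕ Fin m → F), (φ.symm ⟨u, hu⟩).2, ?_⟩
      rw [LinearEquiv.coe_coe, hgφ]
      simp
  -- the subspaces over `U₀` are `A` and `B`
  have key : ∀ W : Submodule F (Fin m ⊕ Fin m → F), Module.finrank F W = m →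
      (∀ w ∈ W, Cfsg.quadFormPlus m F w = 0) → U₀ ≤ W → W = A ∨ W = B := by
    intro W hWm hWs hUW
    have hy : ∀ w ∈ W, ∀ i, i ≠ i₀ → w (Sum.inr i) = 0 := by
      intro w hw i hi
      have he : Pi.single (Sum.inl i) 1 ∈ U₀ := by
        rw [mem_coordKer]
        rintro (j | j) <;> simp [midIdx, Ne.symm hi]
      have h1 := hWs _ (W.add_mem hw (hUW he))
      have e : ∀ j, (w + (Pi.single (Sum.inl i) 1 : Fin m ⊕ Fin m → F)) (Sum.inl j) *
          (w + (Pi.single (Sum.inl i) 1 : Fin m ⊕ Fin m → F)) (Sum.inr j) =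
          w (Sum.inl j) * w (Sum.inr j) + (if j = i then w (Sum.inr j) else 0) := by
        intro j
        by_cases hj : j = i
        · subst hj; simp [add_mul, Pi.single_apply]
        · simp [hj, Pi.single_apply]
      have h0 := hWs w hw
      simp only [Cfsg.quadFormPlus] at h1 h0
      simp only [e, Finset.sum_add_distrib, h0, zero_add, Finset.sum_ite_eq', Finset.mem_univ,
        if_true] at h1
      exact h1
    have hor : ∀ w ∈ W, w (Sum.inr i₀) = 0 ∨ w (Sum.inl i₀) = 0 := by
      intro w hw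
      have h0 := hWs w hw
      simp only [Cfsg.quadFormPlus] at h0
      rw [Finset.sum_eq_single i₀ (fun j _ hj => by rw [hy w hw j hj, mul_zero]) (by simp)] at h0
      exact (mul_eq_zero.1 h0).symm
    have hsub : W ≤ A ∨ W ≤ B := by
      by_contra hcon
      push Not at hcon
      obtain ⟨a, haW, haA⟩ := SetLike.not_le_iff_exists.1 hcon.1
      obtain ⟨b, hbW, hbB⟩ := SetLike.not_le_iff_exists.1 hcon.2
      have ha : a (Sum.inr i₀) ≠ 0 := fun h => haA (mem_coordKer.2 fun i => by
        by_cases hi : i = i₀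
        · subst hi; exact h
        · exact hy a haW i hi)
      have hb : b (Sum.inl i₀) ≠ 0 := fun h => hbB (mem_coordKer.2 fun i => by
        by_cases hi : i = i₀
        · simpa [swapIdx, hi] using h
        · simpa [swapIdx, hi] using hy b hbW i hi)
      have hb' := (hor b hbW).resolve_right hb
      have ha' := (hor a haW).resolve_left ha
      rcases hor (a + b) (W.add_mem haW hbW) with h | h
      · simp [hb', ha] at h
      · simp [ha', hb] at h
    rcases hsub with h | h
    · exact Or.inl (Submodule.eq_of_le_of_finrank_le h (by omega))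
    · exact Or.inr (Submodule.eq_of_le_of_finrank_le h (by omega))
  have hne : A ≠ B := fun h => by
    have : A ⊓ B = U₀ := coordKer_inr_inf_swap i₀
    rw [h, inf_idem] at this
    rw [this] at hB
    omega
  have hmap : ∀ {W : Submodule F (Fin m ⊕ Fin m → F)}, Module.finrank F W = m →
      (∀ w ∈ W, Cfsg.quadFormPlus m F w = 0) → U₀ ≤ W →
      Module.finrank F (W.map g.toLinearMap) = m ∧
      (∀ w ∈ W.map g.toLinearMap, Cfsg.quadFormPlus m F w = 0) ∧ U ≤ W.map g.toLinearMap :=
    fun h1 h2 h3 => ⟨by rw [LinearEquiv.finrank_map_eq]; exact h1,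
      by rintro _ ⟨w, hw, rfl⟩; rw [LinearEquiv.coe_coe, hgQ]; exact h2 w hw,
      hgU ▸ Submodule.map_mono h3⟩
  rw [Nat.card_eq_two_iff]
  refine ⟨⟨A.map g.toLinearMap, hmap (by omega) (fun w hw => singular_inr hw) hUA⟩,
    ⟨B.map g.toLinearMap, hmap (by omega) (fun w hw => singular_swap i₀ hw) hUB⟩, ?_, ?_⟩
  · intro h
    exact hne (Submodule.map_injective_of_injective g.injective (congrArg Subtype.val h))
  · refine Set.eq_univ_of_forall fun ⟨W, hW1, hW2, hW3⟩ => ?_
    have hWg : (W.comap g.toLinearMap).map g.toLinearMap = W :=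
      Submodule.map_comap_eq_of_surjective g.surjective W
    rcases key (W.comap g.toLinearMap) (by
        rw [← LinearEquiv.finrank_map_eq g, hWg]; exact hW1)
      (fun w hw => by rw [← hgQ]; exact hW2 _ hw)
      (fun w hw => hW3 (hgU ▸ Submodule.mem_map_of_mem hw)) with h | h
    · left; exact Subtype.ext (hWg.symm.trans (by rw [h]))
    · right; exact Subtype.ext (hWg.symm.trans (by rw [h]))

end Cfsg.Agent.Lib.MaxSingular
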